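import Mathlib

/-!
Flat deformations over `k[X]/(X^(n+1))` of smooth affine algebras: smoothness over the base and the
derivation `d/dt` modulo `t^n`.
-/

set_option autoImplicit false
universe u

open Polynomial TensorProduct

namespace Groth.Agent.DefSplit

variable {k : Type u} [Field k] {n : ℕ} {D : Type u} [CommRing D] [Algebra k D] {τ : D}
  {B : Type u} [CommRing B] [Algebra k B] [Algebra D B] [IsScalarTower k D B] {t : B}

theorem exists_aeval (e : (k[X] ⧸ Ideal.span {(X : k[X]) ^ (n + 1)}) ≃ₐ[k] D)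
    (he : e (Ideal.Quotient.mk (Ideal.span {(X : k[X]) ^ (n + 1)}) X) = τ) (P : k[X]) :
    e (Ideal.Quotient.mk _ P) = aeval τ P := by
  have : (e.toAlgHom.comp (Ideal.Quotient.mkₐ k (Ideal.span {(X : k[X]) ^ (n + 1)}))) = aeval τ :=
    Polynomial.algHom_ext (by simpa using he)
  exact AlgHom.congr_fun this P

theorem exists_eq_aeval (e : (k[X] ⧸ Ideal.span {(X : k[X]) ^ (n + 1)}) ≃ₐ[k] D)
    (he : e (Ideal.Quotient.mk (Ideal.span {(X : k[X]) ^ (n + 1)}) X) = τ) (d : D) :
    ∃ P : k[X], aeval τ P = d := by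
  obtain ⟨P, hP⟩ := Ideal.Quotient.mk_surjective (e.symm d)
  exact ⟨P, by rw [← exists_aeval e he, hP, e.apply_symm_apply]⟩

theorem pow_succ_eq_zero (e : (k[X] ⧸ Ideal.span {(X : k[X]) ^ (n + 1)}) ≃ₐ[k] D)
    (he : e (Ideal.Quotient.mk (Ideal.span {(X : k[X]) ^ (n + 1)}) X) = τ)
    (ht : t = algebraMap D B τ) : t ^ (n + 1) = 0 := by
  rw [ht, ← map_pow, ← aeval_X_pow τ (R := k), ← exists_aeval e he,
    Ideal.Quotient.eq_zero_iff_mem.2 (Ideal.mem_span_singleton_self _), map_zero, map_zero]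

/-- Flatness computes annihilators of powers of `t`. -/
theorem dvd_of_pow_mul_eq_zero [Module.Flat D B] (e : (k[X] ⧸ Ideal.span {(X : k[X]) ^ (n + 1)}) ≃ₐ[k] D)
    (he : e (Ideal.Quotient.mk (Ideal.span {(X : k[X]) ^ (n + 1)}) X) = τ)
    (ht : t = algebraMap D B τ) (j : ℕ) (hj : j ≤ n + 1) (x : B) (hx : t ^ j * x = 0) :
    t ^ (n + 1 - j) ∣ x := by
  have hrel : ∑ i : Fin 1, ((fun _ => τ ^ j) i) • ((fun _ => x) i : B) = 0 := by
    simp [Algebra.smul_def, ← ht, hx]
  obtain ⟨l, a, y, hay, ha⟩ := Module.Flat.isTrivialRelation_of_sum_smul_eq_zero (R := D) (M := B)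
    (f := fun _ : Fin 1 => τ ^ j) (x := fun _ => x) (by simpa using hrel)
  rw [show x = ∑ i : Fin l, a 0 i • y i from hay 0]
  refine Finset.dvd_sum fun i _ => ?_
  have h := ha i
  rw [Fin.sum_univ_one] at h
  obtain ⟨P, hP⟩ := exists_eq_aeval e he (a 0 i)
  have hX : (X : k[X]) ^ (n + 1) ∣ X ^ j * P := by
    rw [← Ideal.mem_span_singleton, ← Ideal.Quotient.eq_zero_iff_mem]
    apply e.injective
    rw [exists_aeval e he, map_mul, map_pow, aeval_X, hP, map_zero]
    exact h
  rw [show n + 1 = j + (n + 1 - j) by omega, pow_add] at hX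
  obtain ⟨Q, hQ⟩ := (mul_dvd_mul_iff_left (pow_ne_zero j X_ne_zero)).1 hX
  refine ⟨algebraMap D B (aeval τ Q) * y i, ?_⟩
  rw [Algebra.smul_def, ← hP, hQ, map_mul, map_pow, aeval_X, map_mul, map_pow, ← ht, mul_assoc]

/-- The deformation is formally smooth over the base. -/
theorem formallySmooth [Module.Flat D B] [Algebra.FormallySmooth k (B ⧸ Ideal.span {t})]
    (e : (k[X] ⧸ Ideal.span {(X : k[X]) ^ (n + 1)}) ≃ₐ[k] D)
    (he : e (Ideal.Quotient.mk (Ideal.span {(X : k[X]) ^ (n + 1)}) X) = τ)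
    (ht : t = algebraMap D B τ) : Algebra.FormallySmooth D B := by
  have ht0 : t ^ (n + 1) = 0 := pow_succ_eq_zero e he ht
  let J := Ideal.span {t}
  let q : B →ₐ[k] B ⧸ J := Ideal.Quotient.mkₐ k J
  have hJ : IsNilpotent (RingHom.ker (q : B →+* B ⧸ J)) := by
    refine ⟨n + 1, ?_⟩
    rw [show RingHom.ker (q : B →+* B ⧸ J) = J from Ideal.mk_ker, Ideal.span_singleton_pow, ht0]
    simp
  let s : (B ⧸ J) →ₐ[k] B :=
    Algebra.FormallySmooth.liftOfSurjective (AlgHom.id k (B ⧸ J)) q Ideal.Quotient.mk_surjective hJ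
  have hs : ∀ z, Ideal.Quotient.mk J (s z) = z := fun z =>
    Algebra.FormallySmooth.liftOfSurjective_apply _ q Ideal.Quotient.mk_surjective hJ z
  let Ψ : (B ⧸ J)[X] →+* B := eval₂RingHom s.toRingHom t
  have hΨC : ∀ z, Ψ (C z) = s z := fun z => eval₂_C _ _
  have hΨX : Ψ X = t := eval₂_X _ _
  have hsurj : Function.Surjective Ψ := by
    have key : ∀ m b, ∃ P, t ^ m ∣ b - Ψ P := by
      intro m
      induction m with
      | zero => exact fun b => ⟨0, by simp⟩
      | succ m ih =>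
        intro b
        obtain ⟨P, w, hw⟩ := ih b
        obtain ⟨v, hv⟩ : t ∣ w - s (Ideal.Quotient.mk J w) := by
          rw [← Ideal.mem_span_singleton, ← Ideal.Quotient.eq_zero_iff_mem, map_sub, hs, sub_self]
        refine ⟨P + C (Ideal.Quotient.mk J w) * X ^ m, v, ?_⟩
        rw [map_add, map_mul, map_pow, hΨC, hΨX, pow_succ, mul_assoc, ← hv]
        linear_combination hw
    intro b
    obtain ⟨P, w, hw⟩ := key (n + 1) b
    exact ⟨P, by rw [ht0, zero_mul, sub_eq_zero] at hw; exact hw.symm⟩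
  have hker : ∀ P, Ψ P = 0 → X ^ (n + 1) ∣ P := by
    intro P hP
    suffices h : ∀ j ≤ n + 1, X ^ j ∣ P from h _ le_rfl
    intro j hj
    induction j with
    | zero => simp
    | succ j ih =>
      obtain ⟨R, rfl⟩ := ih (by omega)
      rw [map_mul, map_pow, hΨX] at hP
      obtain ⟨v, hv⟩ := dvd_trans (dvd_pow_self t (show n + 1 - j ≠ 0 by omega))
        (dvd_of_pow_mul_eq_zero e he ht j (by omega) _ hP)
      rw [pow_succ]
      refine mul_dvd_mul_left _ (X_dvd_iff.2 ?_)
      obtain ⟨R', hR'⟩ := (X_dvd_sub_C : X ∣ R - C (R.coeff 0))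
      have := congrArg (fun z => Ideal.Quotient.mk J (Ψ z)) hR'
      simp only [map_sub, map_mul, hΨC, hΨX, hs, hv] at this
      rw [Ideal.Quotient.eq_zero_iff_mem.2 (Ideal.mem_span_singleton_self t), zero_mul, zero_mul, zero_sub,
        neg_eq_zero] at this
      exact this
  refine Algebra.FormallySmooth.of_comp_surjective fun S _ _ I hI g => ?_
  letI : Algebra k S := ((algebraMap D S).comp (algebraMap k D)).toAlgebra
  haveI : IsScalarTower k D S := IsScalarTower.of_algebraMap_eq fun _ => rfl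
  let h0 : (B ⧸ J) →ₐ[k] S := Algebra.FormallySmooth.lift I ⟨2, hI⟩ ((g.restrictScalars k).comp s)
  have hh0 : ∀ z, Ideal.Quotient.mk I (h0 z) = g (s z) := fun z => Algebra.FormallySmooth.mk_lift I ⟨2, hI⟩ _ z
  let Λ : (B ⧸ J)[X] →+* S := eval₂RingHom h0.toRingHom (algebraMap D S τ)
  have hΛ : RingHom.ker Ψ ≤ RingHom.ker Λ := by
    intro P hP
    obtain ⟨R, rfl⟩ := hker P hP
    have : τ ^ (n + 1) = 0 := by
      rw [← aeval_X_pow τ (R := k), ← exists_aeval e he,
        Ideal.Quotient.eq_zero_iff_mem.2 (Ideal.mem_span_singleton_self _), map_zero]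
    rw [RingHom.mem_ker, map_mul, map_pow, show Λ X = algebraMap D S τ from eval₂_X _ _, ← map_pow, this,
      map_zero, zero_mul]
  let h : B →+* S := RingHom.liftOfSurjective Ψ hsurj ⟨Λ, hΛ⟩
  have hh : ∀ P, h (Ψ P) = Λ P := RingHom.liftOfRightInverse_comp_apply Ψ _ _ ⟨Λ, hΛ⟩
  have hhk : ∀ c : k, h (algebraMap k B c) = algebraMap k S c := fun c => by
    rw [← s.commutes c, ← hΨC, hh]
    exact (eval₂_C _ _).trans (h0.commutes c)
  have hhτ : h t = algebraMap D S τ := by rw [← hΨX, hh]; exact eval₂_X _ _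
  refine ⟨⟨h, fun d => ?_⟩, AlgHom.ext fun b => ?_⟩
  · obtain ⟨P, rfl⟩ := exists_eq_aeval e he d
    induction P using Polynomial.induction_on' with
    | add p q hp hq => simp only [map_add] at hp hq ⊢; rw [← hp, ← hq]; exact map_add h _ _
    | monomial i c =>
      show h (algebraMap D B _) = algebraMap D S _
      rw [aeval_monomial, map_mul, map_mul, map_pow, map_pow, ← IsScalarTower.algebraMap_apply, ← ht, map_mul,
        map_pow, hhτ, hhk]
      rfl
  · obtain ⟨P, rfl⟩ := hsurj b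
    show Ideal.Quotient.mk I (h (Ψ P)) = g (Ψ P)
    rw [hh]
    refine RingHom.congr_fun (Polynomial.ringHom_ext
      (f := (Ideal.Quotient.mk I).comp Λ) (g := g.toRingHom.comp Ψ) (fun z => ?_) ?_) P
    · show Ideal.Quotient.mk I (Λ (C z)) = g (Ψ (C z))
      rw [show Λ (C z) = h0 z from eval₂_C _ _, hh0, hΨC]
    · show Ideal.Quotient.mk I (Λ X) = g (Ψ X)
      rw [show Λ X = algebraMap D S τ from eval₂_X _ _, hΨX, ht, g.commutes]
      rfl

/-- The derivation `d/dt` modulo `t ^ n`. -/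
theorem exists_retraction [Module.Flat D B] [Algebra.FormallySmooth k (B ⧸ Ideal.span {t})]
    (e : (k[X] ⧸ Ideal.span {(X : k[X]) ^ (n + 1)}) ≃ₐ[k] D)
    (he : e (Ideal.Quotient.mk (Ideal.span {(X : k[X]) ^ (n + 1)}) X) = τ)
    (ht : t = algebraMap D B τ) :
    ∃ r : Ω[B⁄k] →ₗ[B] B ⧸ Ideal.span {t ^ n}, r (KaehlerDifferential.D k B t) = 1 := by
  haveI := formallySmooth e he ht
  let I := Ideal.span {t ^ n}
  let B' := B ⧸ I
  let ρ : D →+* (TrivSqZeroExt B' B') := (Ideal.Quotient.lift (Ideal.span {(X : k[X]) ^ (n + 1)})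
      (eval₂RingHom ((TrivSqZeroExt.inlHom B' B').comp (algebraMap k B'))
        (TrivSqZeroExt.inl (Ideal.Quotient.mk I t) + TrivSqZeroExt.inr 1)) (by
      intro a ha
      obtain ⟨c, rfl⟩ := Ideal.mem_span_singleton.1 ha
      rw [map_mul, map_pow, coe_eval₂RingHom, eval₂_X]
      have h0 : Ideal.Quotient.mk I t ^ n = 0 := by
        rw [← map_pow]; exact Ideal.Quotient.eq_zero_iff_mem.2 (Ideal.mem_span_singleton_self _)
      have h1 : (TrivSqZeroExt.inl (Ideal.Quotient.mk I t) + TrivSqZeroExt.inr 1 : (TrivSqZeroExt B' B')) ^ (n + 1) = 0 := by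
        refine TrivSqZeroExt.ext ?_ ?_
        · rw [pow_succ, TrivSqZeroExt.fst_mul, TrivSqZeroExt.fst_pow, TrivSqZeroExt.fst_add, TrivSqZeroExt.fst_inl,
            TrivSqZeroExt.fst_inr, add_zero, h0, zero_mul, TrivSqZeroExt.fst_zero]
        · rw [TrivSqZeroExt.snd_pow, TrivSqZeroExt.fst_add, TrivSqZeroExt.fst_inl,
            TrivSqZeroExt.fst_inr, add_zero, Nat.pred_succ, h0, zero_smul, smul_zero, TrivSqZeroExt.snd_zero]
      rw [h1, zero_mul])).comp e.symm.toRingEquiv.toRingHom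
  letI : Algebra D (TrivSqZeroExt B' B') := ρ.toAlgebra
  have hρ : ∀ P : k[X], algebraMap D (TrivSqZeroExt B' B') (aeval τ P) =
      eval₂RingHom ((TrivSqZeroExt.inlHom B' B').comp (algebraMap k B'))
        (TrivSqZeroExt.inl (Ideal.Quotient.mk I t) + TrivSqZeroExt.inr 1) P := by
    intro P
    rw [← exists_aeval e he]
    show ρ (e (Ideal.Quotient.mk _ P)) = _
    simp [ρ]
  let fst : (TrivSqZeroExt B' B') →ₐ[D] B' :=
    { (TrivSqZeroExt.fstHom B' B' B').toRingHom with
      commutes' := fun d => by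
        obtain ⟨P, rfl⟩ := exists_eq_aeval e he d
        show TrivSqZeroExt.fst (algebraMap D (TrivSqZeroExt B' B') (aeval τ P)) = Ideal.Quotient.mk I (algebraMap D B (aeval τ P))
        rw [hρ, ← aeval_algebraMap_apply, ← ht]
        induction P using Polynomial.induction_on' with
        | add p q hp hq => rw [map_add, TrivSqZeroExt.fst_add, hp, hq, map_add, map_add]
        | monomial i c => simp [TrivSqZeroExt.fst_pow]; rfl }
  have hsurj : Function.Surjective fst := fun b => ⟨TrivSqZeroExt.inl b, rfl⟩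
  have hnil : IsNilpotent (RingHom.ker (fst : (TrivSqZeroExt B' B') →+* B')) := by
    have key : ∀ K : Ideal (TrivSqZeroExt B' B'), (∀ x ∈ K, ∀ y ∈ K, x * y = 0) → K ^ 2 = ⊥ := fun K hK => by
      rw [pow_two, ← le_bot_iff, Ideal.mul_le]
      exact fun x hx y hy => (Ideal.mem_bot).2 (hK x hx y hy)
    refine ⟨2, key _ fun x hx y hy => ?_⟩
    change TrivSqZeroExt.fst x = 0 at hx
    change TrivSqZeroExt.fst y = 0 at hy
    refine TrivSqZeroExt.ext ?_ ?_ <;> simp [TrivSqZeroExt.snd_mul, hx, hy]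
  let h : B →ₐ[D] (TrivSqZeroExt B' B') := Algebra.FormallySmooth.liftOfSurjective (Ideal.Quotient.mkₐ D I) fst hsurj hnil
  have hfst : ∀ b, TrivSqZeroExt.fst (h b) = Ideal.Quotient.mk I b := fun b =>
    Algebra.FormallySmooth.liftOfSurjective_apply _ fst hsurj hnil b
  have hk : ∀ c : k, h (algebraMap k B c) = TrivSqZeroExt.inl (algebraMap k B' c) := fun c => by
    rw [IsScalarTower.algebraMap_apply k D B, h.commutes, ← aeval_C τ (R := k), hρ]
    simp
  let δ : Derivation k B B' := Derivation.mk'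
    { toFun := fun b => TrivSqZeroExt.snd (h b)
      map_add' := fun a b => by rw [map_add, TrivSqZeroExt.snd_add]
      map_smul' := fun c b => by
        rw [Algebra.smul_def, map_mul, hk, TrivSqZeroExt.snd_mul, TrivSqZeroExt.fst_inl, TrivSqZeroExt.snd_inl,
          smul_zero, add_zero, RingHom.id_apply]
        simp [Algebra.smul_def] }
    (fun a b => by
      show TrivSqZeroExt.snd (h (a * b)) = a • TrivSqZeroExt.snd (h b) + b • TrivSqZeroExt.snd (h a)
      rw [map_mul, TrivSqZeroExt.snd_mul, hfst, hfst, op_smul_eq_mul]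
      simp [Algebra.smul_def, mul_comm]
      rfl)
  refine ⟨δ.liftKaehlerDifferential, ?_⟩
  rw [Derivation.liftKaehlerDifferential_comp_D]
  show TrivSqZeroExt.snd (h t) = 1
  rw [ht, h.commutes, ← aeval_X τ (R := k), hρ]
  simp

/-- Kernel of reduction on differentials. -/
theorem exists_of_mapBaseChange_eq_zero {R A : Type u} [CommRing R] [CommRing A] [Algebra R A] (I : Ideal A)
    (x : (A ⧸ I) ⊗[A] Ω[A⁄R])
    (hx : KaehlerDifferential.mapBaseChange R A (A ⧸ I) x = 0) :
    ∃ b ∈ I, x = 1 ⊗ₜ KaehlerDifferential.D R A b := by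
  obtain ⟨z, rfl⟩ := ((KaehlerDifferential.exact_kerCotangentToTensor_mapBaseChange R A (A ⧸ I)
    Ideal.Quotient.mk_surjective) x).1 hx
  obtain ⟨⟨b, hb⟩, rfl⟩ := Ideal.toCotangent_surjective _ z
  exact ⟨b, Ideal.Quotient.eq_zero_iff_mem.1 hb, rfl⟩

theorem mem_smul_top_of_tmul_eq_zero {M : Type u} [AddCommGroup M] [Module B M] (I : Ideal B) (x : M)
    (hx : (1 : B ⧸ I) ⊗ₜ[B] x = 0) : x ∈ I • (⊤ : Submodule B M) := by
  have := congrArg (TensorProduct.quotTensorEquivQuotSMul M I) hx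
  rw [map_zero, ← map_one (Ideal.Quotient.mk I), TensorProduct.quotTensorEquivQuotSMul_mk_tmul, one_smul,
    Submodule.Quotient.mk_eq_zero] at this
  exact this

/-- The differentials killed by the relative map are multiples of `dt`. -/
theorem exists_of_map_eq_zero (e : (k[X] ⧸ Ideal.span {(X : k[X]) ^ (n + 1)}) ≃ₐ[k] D)
    (he : e (Ideal.Quotient.mk (Ideal.span {(X : k[X]) ^ (n + 1)}) X) = τ)
    (ht : t = algebraMap D B τ) (η : Ω[B⁄k]) (hη : KaehlerDifferential.map k D B B η = 0) :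
    ∃ b : B, η = b • KaehlerDifferential.D k B t := by
  obtain ⟨z, rfl⟩ := (KaehlerDifferential.exact_mapBaseChange_map k D B η).1 hη
  induction z using TensorProduct.induction_on with
  | zero => exact ⟨0, by simp⟩
  | add x y hx hy =>
    obtain ⟨a, ha⟩ := hx (KaehlerDifferential.exact_mapBaseChange_map k D B _ |>.2 ⟨x, rfl⟩)
    obtain ⟨b, hb⟩ := hy (KaehlerDifferential.exact_mapBaseChange_map k D B _ |>.2 ⟨y, rfl⟩)
    exact ⟨a + b, by rw [map_add, ha, hb, add_smul]⟩
  | tmul b w =>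
    clear hη
    have hw : ∃ c : B, KaehlerDifferential.map k k D B w = c • KaehlerDifferential.D k B t := by
      have hmem : w ∈ Submodule.span D (Set.range (KaehlerDifferential.D k D)) := by
        rw [KaehlerDifferential.span_range_derivation]; trivial
      induction hmem using Submodule.span_induction with
      | mem x hx =>
        obtain ⟨d, rfl⟩ := hx
        obtain ⟨P, rfl⟩ := exists_eq_aeval e he d
        refine ⟨algebraMap D B (aeval τ (derivative P)), ?_⟩
        rw [KaehlerDifferential.map_D, ← aeval_algebraMap_apply, ← ht, Derivation.map_aeval,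
          ← aeval_algebraMap_apply, ← ht]
      | zero => exact ⟨0, by simp⟩
      | add x y _ _ hx hy =>
        obtain ⟨a, ha⟩ := hx
        obtain ⟨c, hc⟩ := hy
        exact ⟨a + c, by rw [map_add, ha, hc, add_smul]⟩
      | smul r x _ hx =>
        obtain ⟨a, ha⟩ := hx
        exact ⟨algebraMap D B r * a, by rw [map_smul, ha, mul_smul, algebraMap_smul]⟩
    obtain ⟨c, hc⟩ := hw
    exact ⟨b * c, by rw [KaehlerDifferential.mapBaseChange_tmul, hc, mul_smul]⟩

end Groth.Agent.DefSplit
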